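/-
Kernel checks for the centraliser of the involution, Basic.
-/
import Cfsg.Agent.Lib.Co3Recog.DefsX
import Cfsg.Agent.Lib.StemSylow.SpSixData

set_option autoImplicit false
set_option maxRecDepth 200000
set_option maxHeartbeats 4000000

namespace CfsgLib.Co3Recog.Data

open CfsgPC Base

theorem x_perm : permsB 339 xGens xInv = true ∧ isPerm 339 zC.1 zC.2 = true ∧ isPerm 339 sC.1 sC.2 = true ∧
    isPerm 339 uC.1 uC.2 = true ∧ isPerm 339 rootZ.1 rootZ.2 = true ∧
    (smallLifts.all fun p => isPerm 339 p.1 p.2) = true ∧ (zComm.all fun p => isPerm 339 p.1 p.2) = true ∧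
    permsB 339 sGens sInv = true ∧ permsB 63 smallImg smallImg = true := by decide +kernel

theorem x_invol : ((List.range 6).all fun a => (List.range 339).all fun i =>
    Nat.beq (ap (xGens.getD a 0) (ap (xGens.getD a 0) i)) i) = true := by decide +kernel

theorem x_table : tableB 339 xChain xGens = true := by decide +kernel

theorem x_sizes : levLen xChain 0 = 240 ∧ sizeOfChain xChain = 2903040 ∧ (xBases.all fun b => Nat.blt b 276) = true := by
  decide +kernel

theorem p_table : tableB 339 pChain pGens = true ∧ siftsB 339 pChain sGens = true ∧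
    permsB 339 pGens pInv = true := by decide +kernel

theorem x_sift : siftsB 339 xChain [zC.1, sC.1, uC.1, rootZ.1] = true ∧ siftsB 339 xChain sGens = true ∧
    siftsB 339 xChain (smallLifts.map Prod.fst) = true ∧ siftsB 339 xChain (zComm.map Prod.fst) = true := by
  decide +kernel

theorem x_block63 : blockB 276 63 xGens smallImg = true ∧
    blockB 0 276 xGens (xGens.map fun c => pk (ap c) 276) = true ∧
    permsB 276 (xGens.map fun c => pk (ap c) 276) (xGens.map fun c => pk (ap c) 276) = true := by decide +kernel

theorem x_small : siftsB 63 StemSylow.SpSixData.smallChain smallImg = true ∧ smallLifts.length = 2 ∧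
    ((List.range 2).all fun a => (List.range 63).all fun i =>
      Nat.beq (ap (smallLifts.getD a (0, 0)).1 (276 + i)) (276 + ap (StemSylow.SpSixData.smallGens.getD a 0) i)) = true := by
  decide +kernel

theorem z_ok : ((List.range 63).all fun i => Nat.beq (ap zC.1 (276 + i)) (276 + i)) = true ∧
    eqB xBases (ap zC.1) id = false ∧ eqB xBases (fun b => ap zC.1 (ap zC.1 b)) id = true ∧
    (xGens.all fun g => eqB xBases (fun b => ap g (ap zC.1 b)) fun b => ap zC.1 (ap g b)) = true ∧
    zComm.length = 2 ∧
    eqB xBases (fun b => ap (zComm.getD 0 (0, 0)).1 (ap (zComm.getD 1 (0, 0)).1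
      (ap (zComm.getD 0 (0, 0)).2 (ap (zComm.getD 1 (0, 0)).2 b)))) (ap zC.1) = true := by decide +kernel

theorem qs_ok : qsList.length = 630 ∧ Nat.beq (qc 0) sC.1 = true := by decide +kernel

theorem qs_distinct : nodupB ((List.range 630).map fun i => keyB xBases (ap (qc i))) = true := by decide +kernel

theorem qs_fix : ((List.range 630).all fun i => Nat.beq (fixCount 276 (ap (qc i))) 36) = true ∧
    fixCount 276 (ap zC.1) = 36 ∧ fixCount 276 (ap uC.1) = 12 ∧
    eqB xBases (fun b => ap uC.1 (ap uC.1 b)) id = true ∧ eqB xBases (ap sC.1) id = false ∧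
    eqB xBases (ap sC.1) (ap zC.1) = false ∧
    eqB xBases (fun b => ap sC.1 (ap sC.1 b)) id = true ∧ eqB xBases (ap uC.1) id = false := by decide +kernel

theorem u_distinct : distinctB xBases xGens xInv uC.1 uWords = true ∧ uWords.length = 631 := by decide +kernel

theorem rootZ_ok : eqB xBases (fun b => ap rootZ.1 (ap rootZ.1 b)) (ap zC.1) = true ∧
    eqB xBases (fun b => ap rootZ.1 (ap uC.1 b)) (fun b => ap uC.1 (ap rootZ.1 b)) = true := by decide +kernel

theorem syl_len : sylCert.length = (allIdx sChain).length := by decide +kernel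

theorem syl_ok : ((allIdx sChain).zip sylCert).all sylB = true := by decide +kernel

theorem syl_cen : (allIdx sChain).all sylCenB = true := by decide +kernel

theorem rels_x : EnumH.rels.all relXB = true ∧ EnumG.rels.all relXB = true ∧ xLetters.length = 7 ∧
    (EnumH.rels.all (ltB 6)) = true ∧ (EnumG.rels.all (ltB 7)) = true := by decide +kernel

end CfsgLib.Co3Recog.Data
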