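/-
Kernel checks for the centraliser of the involution, closed tables.
-/
import Cfsg.Agent.Lib.Co3Recog.DefsX

set_option autoImplicit false
set_option maxRecDepth 200000
set_option maxHeartbeats 4000000

namespace CfsgLib.Co3Recog.Data

open CfsgPC Base

theorem x_closed_all : closedAll 339 xPts xChain xGens = true := by decide +kernel

theorem k_table : tableB 339 kChain kGens = true ∧ closedAll 339 xBases kChain kGens = true ∧
    sizeOfChain kChain = 80640 := by decide +kernel

theorem s_table_low : tableB 339 sChain sGens = true ∧ closedAll 339 xBases sChain sGens = true ∧
    sizeOfChain sChain = 1024 := by decide +kernel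

end CfsgLib.Co3Recog.Data
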